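import Mathlib
import Cfsg.Prelude.Def_Sporadic_a
import Cfsg.Prelude.Def_Spor_Mathieu
import Cfsg.Prelude.Def_KGroupFacts
import Cfsg.Agent.Lib.Helper96.MathieuOut

set_option autoImplicit false

/-!
# Every automorphism of `M23` is inner
-/

namespace Cfsg.Agent.Lib.Helper96

open Cfsg Cfsg.Agent.Lib.Helper9
open scoped Pointwise

theorem M23_le : Spor.M23 ≤ M24 := fun _ hx => hx.1

theorem shift_mem_M23 : shiftPerm ∈ Spor.M23 := by
  rw [Cfsg.Agent.Lib.Helper89.M23_eq]; exact shift_mem23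

theorem cube_mem_M23 : cubeTwist ∈ Spor.M23 := by
  rw [Cfsg.Agent.Lib.Helper89.M23_eq]; exact cubeTwist_mem23

theorem o24m_mem_M23 : o24m ∈ Spor.M23 := by
  rw [Cfsg.Agent.Lib.Helper89.M23_eq]
  exact ⟨o24m_mem, mem_fixing_of_table hasTable_o24m (by decide)⟩

theorem nk_mem_M23 : ∀ N ∈ o24NK, ∀ n : Equiv.Perm GolayPt, HasTable n N → n ∈ M24 →
    n ∈ Spor.M23 := by
  intro N hN n hn hnM
  rw [Cfsg.Agent.Lib.Helper89.M23_eq]
  refine ⟨hnM, mem_fixing_of_table hn ?_⟩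
  have h := List.all_eq_true.mp o23_rels.2.1 N hN
  simp only [List.all_cons, List.all_nil, Bool.and_true, Bool.and_eq_true, decide_eq_true_eq]
  exact ⟨by norm_num, h⟩

theorem closure_M23 : Subgroup.closure {shiftPerm, cubeTwist} = Spor.M23 := by
  apply Subgroup.eq_of_le_of_card_ge
  · rw [Subgroup.closure_le]
    rintro x (rfl | rfl)
    exacts [shift_mem_M23, cube_mem_M23]
  · rw [Cfsg.Agent.Lib.Helper89.card_SporM23]
    have hg : shiftPerm ∈ Subgroup.closure ({shiftPerm, cubeTwist} : Set (Equiv.Perm GolayPt)) :=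
      Subgroup.subset_closure (by simp)
    have hc : cubeTwist ∈ Subgroup.closure ({shiftPerm, cubeTwist} : Set (Equiv.Perm GolayPt)) :=
      Subgroup.subset_closure (by simp)
    exact card_ge_m23 hg (Subgroup.mul_mem _ (Subgroup.mul_mem _ hc hg) (Subgroup.inv_mem _ hc))

theorem fac_M23 : (Nat.card ↥Spor.M23).factorization 23 = 1 := by
  rw [Cfsg.Agent.Lib.Helper89.card_SporM23]
  exact factorization_eq_one_of (by norm_num) (m := 443520) (by norm_num) (by norm_num)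

theorem o23_rel_perm : (shiftPerm * (cubeTwist * cubeTwist)) ^ 5 = 1 :=
  eq_of_tables (hasTable_pow (hasTable_mul hasTable_shift
    (hasTable_mul hasTable_cubeTwist hasTable_cubeTwist)) 5) hasTable_one o23_rels.1

/-- Every automorphism of `M23` is inner. -/
theorem m23_aut_inner (φ : MulAut ↥Spor.M23) : ∃ x : ↥Spor.M23, MulAut.conj x = φ := by
  obtain ⟨h, e, em⟩ := norm23 M23_le shift_mem_M23 o24m_mem_M23 nk_mem_M23 fac_M23 φ
  set ψ : MulAut ↥Spor.M23 := MulAut.conj h * φ with hψ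
  have hrel : (⟨cubeTwist, cube_mem_M23⟩ : ↥Spor.M23) * ⟨o24m, o24m_mem_M23⟩ =
      ⟨o24m, o24m_mem_M23⟩ ^ 3 * ⟨cubeTwist, cube_mem_M23⟩ := Subtype.ext o24_r5
  have h1 : ψ ⟨cubeTwist, cube_mem_M23⟩ * ⟨o24m, o24m_mem_M23⟩ =
      ⟨o24m, o24m_mem_M23⟩ ^ 3 * ψ ⟨cubeTwist, cube_mem_M23⟩ := by
    have := congrArg ψ hrel
    rwa [map_mul, map_mul, map_pow, em] at this
  have hZ : ((ψ ⟨cubeTwist, cube_mem_M23⟩ : ↥Spor.M23) : Equiv.Perm GolayPt) * o24m =
      o24m ^ 3 * ((ψ ⟨cubeTwist, cube_mem_M23⟩ : ↥Spor.M23) : Equiv.Perm GolayPt) :=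
    congrArg Subtype.val h1
  obtain ⟨X, hXT, hP⟩ := solve_pin o24_solve5 o23_chk hasTable_o24m
    (hasTable_pow hasTable_o24m 3) (M23_le (ψ ⟨cubeTwist, cube_mem_M23⟩).2) hZ
  have hrel2 : ((⟨shiftPerm, shift_mem_M23⟩ : ↥Spor.M23) *
      (⟨cubeTwist, cube_mem_M23⟩ * ⟨cubeTwist, cube_mem_M23⟩)) ^ 5 = 1 :=
    Subtype.ext o23_rel_perm
  have h2 : (ψ ⟨shiftPerm, shift_mem_M23⟩ *
      (ψ ⟨cubeTwist, cube_mem_M23⟩ * ψ ⟨cubeTwist, cube_mem_M23⟩)) ^ 5 = 1 := by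
    rw [← map_mul, ← map_mul, ← map_pow, hrel2, map_one]
  simp only [Bool.and_eq_true, Bool.or_eq_true, Bool.not_eq_eq_eq_not, Bool.not_true,
    beq_iff_eq, beq_eq_false_iff_ne, ne_eq] at hP
  obtain ⟨hP1, hP2⟩ := hP
  have hg : ψ ⟨shiftPerm, shift_mem_M23⟩ = ⟨shiftPerm, shift_mem_M23⟩ := by
    rcases e with e | e
    · exact e
    · exfalso
      rw [e] at h2
      have h3 : (shiftPerm ^ 22 * (((ψ ⟨cubeTwist, cube_mem_M23⟩ : ↥Spor.M23) :
          Equiv.Perm GolayPt) * ((ψ ⟨cubeTwist, cube_mem_M23⟩ : ↥Spor.M23) :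
          Equiv.Perm GolayPt))) ^ 5 = 1 := congrArg Subtype.val h2
      exact hP2 (table_eq_of_eq (hasTable_pow (hasTable_mul (hasTable_pow hasTable_shift 22)
        (hasTable_mul hXT hXT)) 5) hasTable_one h3)
  have hc : ψ ⟨cubeTwist, cube_mem_M23⟩ = ⟨cubeTwist, cube_mem_M23⟩ := by
    rw [hg] at h2
    have h3 : (shiftPerm * (((ψ ⟨cubeTwist, cube_mem_M23⟩ : ↥Spor.M23) :
        Equiv.Perm GolayPt) * ((ψ ⟨cubeTwist, cube_mem_M23⟩ : ↥Spor.M23) :
        Equiv.Perm GolayPt))) ^ 5 = 1 := congrArg Subtype.val h2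
    have h4 : powT (compT shiftT (compT X X)) 5 = idT :=
      table_eq_of_eq (hasTable_pow (hasTable_mul hasTable_shift (hasTable_mul hXT hXT)) 5)
        hasTable_one h3
    rcases hP1 with hP1 | hP1
    · exact (hP1 h4).elim
    · apply Subtype.ext
      exact eq_of_tables hXT hasTable_cubeTwist hP1
  have hψ1 : ψ = 1 := by
    apply eq_one_of_fix_closure {shiftPerm, cubeTwist} closure_M23
    rintro s (rfl | rfl) hs
    · exact hg
    · exact hc
  refine ⟨h⁻¹, ?_⟩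
  rw [map_inv]
  exact inv_eq_of_mul_eq_one_right hψ1

theorem card_out_m23 : Nat.card (Cfsg.Out ↥Spor.M23) = 1 := card_out_eq_one m23_aut_inner

end Cfsg.Agent.Lib.Helper96
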