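import Cfsg.Agent.Lib.Helper97.KLin

/-!
# Pieces G1 and det-norm for the extension-field normaliser (S5886)

Helper library (helper96) for helper97's S5886:

* `exists_fix_notLine` (G1): an element of `M ≥ klG K` outside the normaliser of `K` yields an
  element `h ∈ M` fixing a non-zero vector `u` and not mapping the `K`-line `K u` into itself.
* `exists_normalizer_det` (det-norm): the determinant is onto on the normaliser of `K`.
* `eq_top_of_sl_le`: a subgroup containing the normaliser of `K` and `SL` is everything.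
-/

set_option autoImplicit false

namespace Cfsg.Agent.Lib.Helper96.KLinG

open Matrix Cfsg.Agent.Lib.Helper97

variable {F : Type*} [Field F] [Fintype F] {n : ℕ} {K : Subalgebra F (Matrix (Fin n) (Fin n) F)}

/-- If conjugation by `g` maps `K` into `K`, then `g` normalises `K`. -/
lemma mem_normalizer_of_conj_le (g : GL (Fin n) F)
    (h : ∀ k ∈ K, (g : Matrix (Fin n) (Fin n) F) * k *
      ((g⁻¹ : GL (Fin n) F) : Matrix (Fin n) (Fin n) F) ∈ K) :
    g ∈ Cfsg.Geo.subalgebraNormalizer K := by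
  intro k
  refine ⟨h k, fun hk => ?_⟩
  let c : ↥K → ↥K := fun x =>
    ⟨(g : Matrix (Fin n) (Fin n) F) * x * ((g⁻¹ : GL (Fin n) F) : Matrix (Fin n) (Fin n) F),
      h x x.2⟩
  have hinj : Function.Injective c := by
    intro x y hxy
    have h1 : (g : Matrix (Fin n) (Fin n) F) * x *
        ((g⁻¹ : GL (Fin n) F) : Matrix (Fin n) (Fin n) F) =
        (g : Matrix (Fin n) (Fin n) F) * y *
        ((g⁻¹ : GL (Fin n) F) : Matrix (Fin n) (Fin n) F) := congrArg Subtype.val hxy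
    exact Subtype.ext ((Units.mul_right_inj g).mp ((Units.mul_left_inj g⁻¹).mp h1))
  have hfin : Finite ↥K := inferInstance
  have hsurj : Function.Surjective c := Finite.injective_iff_surjective.mp hinj
  obtain ⟨x, hx⟩ := hsurj ⟨_, hk⟩
  have h1 : (g : Matrix (Fin n) (Fin n) F) * x *
      ((g⁻¹ : GL (Fin n) F) : Matrix (Fin n) (Fin n) F) =
      (g : Matrix (Fin n) (Fin n) F) * k *
      ((g⁻¹ : GL (Fin n) F) : Matrix (Fin n) (Fin n) F) := congrArg Subtype.val hx
  have h2 : (x : Matrix (Fin n) (Fin n) F) = k :=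
    (Units.mul_right_inj g).mp ((Units.mul_left_inj g⁻¹).mp h1)
  rw [← h2]
  exact x.2

/-- **G1**: an element of `M ≥ klG K` outside the normaliser of `K` gives `h ∈ M` fixing a
non-zero vector `u` with `h (ω u) ∉ K u` for some `ω ∈ K`. -/
theorem exists_fix_notLine {r : ℕ} (hK : Cfsg.Geo.IsFieldSubalgebra r K) (hn : r < n)
    (M : Subgroup (GL (Fin n) F)) (hM : klG K ≤ M) (g : GL (Fin n) F) (hg : g ∈ M)
    (hgN : g ∉ Cfsg.Geo.subalgebraNormalizer K) :
    ∃ (u : Fin n → F) (h : GL (Fin n) F) (ω : ↥K), u ≠ 0 ∧ h ∈ M ∧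
      (h : Matrix (Fin n) (Fin n) F) *ᵥ u = u ∧
      ∀ k : ↥K, (k : Matrix (Fin n) (Fin n) F) *ᵥ u ≠
        (h : Matrix (Fin n) (Fin n) F) *ᵥ ((ω : Matrix (Fin n) (Fin n) F) *ᵥ u) := by
  have hgi : ((g⁻¹ : GL (Fin n) F) : Matrix (Fin n) (Fin n) F) * g = 1 := by
    rw [← Units.val_mul, inv_mul_cancel, Units.val_one]
  have hgi' : (g : Matrix (Fin n) (Fin n) F) *
      ((g⁻¹ : GL (Fin n) F) : Matrix (Fin n) (Fin n) F) = 1 := by
    rw [← Units.val_mul, mul_inv_cancel, Units.val_one]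
  obtain ⟨u, ω, hu, hA⟩ : ∃ (u : Fin n → F) (ω : ↥K), u ≠ 0 ∧
      ∀ k : ↥K, (k : Matrix (Fin n) (Fin n) F) *ᵥ ((g : Matrix (Fin n) (Fin n) F) *ᵥ u) ≠
        (g : Matrix (Fin n) (Fin n) F) *ᵥ ((ω : Matrix (Fin n) (Fin n) F) *ᵥ u) := by
    by_contra hcon
    push Not at hcon
    apply hgN
    apply mem_normalizer_of_conj_le
    intro ω hω
    apply mem_of_forall_line hK hn
    intro v
    rcases eq_or_ne v 0 with rfl | hv
    · exact ⟨0, by rw [Matrix.mulVec_zero, Matrix.mulVec_zero]⟩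
    · have hu : ((g⁻¹ : GL (Fin n) F) : Matrix (Fin n) (Fin n) F) *ᵥ v ≠ 0 := by
        intro h0
        apply hv
        have h1 := congrArg (fun x => (g : Matrix (Fin n) (Fin n) F) *ᵥ x) h0
        simp only [Matrix.mulVec_mulVec, hgi', Matrix.one_mulVec, Matrix.mulVec_zero] at h1
        exact h1
      obtain ⟨k, hk⟩ := hcon _ ⟨ω, hω⟩ hu
      refine ⟨k, ?_⟩
      have e : (g : Matrix (Fin n) (Fin n) F) *ᵥ
          (((g⁻¹ : GL (Fin n) F) : Matrix (Fin n) (Fin n) F) *ᵥ v) = v := by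
        rw [Matrix.mulVec_mulVec, hgi', Matrix.one_mulVec]
      rw [e] at hk
      rw [hk, ← Matrix.mulVec_mulVec, ← Matrix.mulVec_mulVec]
  have hgu : (g : Matrix (Fin n) (Fin n) F) *ᵥ u ≠ 0 := by
    intro h0
    apply hu
    have h1 := congrArg (fun x => ((g⁻¹ : GL (Fin n) F) : Matrix (Fin n) (Fin n) F) *ᵥ x) h0
    simp only [Matrix.mulVec_mulVec, hgi, Matrix.one_mulVec, Matrix.mulVec_zero] at h1
    exact h1
  obtain ⟨t, ht, htu⟩ := exists_klG_map hK hn _ u hgu hu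
  refine ⟨u, t * g, ω, hu, M.mul_mem (hM ht) hg, ?_, ?_⟩
  · rw [Units.val_mul, ← Matrix.mulVec_mulVec, htu]
  · intro k hk
    apply hA k
    rw [Units.val_mul, ← Matrix.mulVec_mulVec] at hk
    have hti : ((t⁻¹ : GL (Fin n) F) : Matrix (Fin n) (Fin n) F) * t = 1 := by
      rw [← Units.val_mul, inv_mul_cancel, Units.val_one]
    have h1 : ((t⁻¹ : GL (Fin n) F) : Matrix (Fin n) (Fin n) F) *ᵥ u =
        (g : Matrix (Fin n) (Fin n) F) *ᵥ u := by
      conv_lhs => rw [← htu]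
      rw [Matrix.mulVec_mulVec, hti, Matrix.one_mulVec]
    have h2 : ((t⁻¹ : GL (Fin n) F) : Matrix (Fin n) (Fin n) F) *ᵥ
        ((k : Matrix (Fin n) (Fin n) F) *ᵥ u) =
        ((t⁻¹ : GL (Fin n) F) : Matrix (Fin n) (Fin n) F) *ᵥ
        ((t : Matrix (Fin n) (Fin n) F) *ᵥ ((g : Matrix (Fin n) (Fin n) F) *ᵥ
          ((ω : Matrix (Fin n) (Fin n) F) *ᵥ u))) := congrArg _ hk
    have e2 : ((t⁻¹ : GL (Fin n) F) : Matrix (Fin n) (Fin n) F) *ᵥ
        ((t : Matrix (Fin n) (Fin n) F) *ᵥ ((g : Matrix (Fin n) (Fin n) F) *ᵥ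
          ((ω : Matrix (Fin n) (Fin n) F) *ᵥ u))) =
        (g : Matrix (Fin n) (Fin n) F) *ᵥ ((ω : Matrix (Fin n) (Fin n) F) *ᵥ u) := by
      rw [Matrix.mulVec_mulVec, hti, Matrix.one_mulVec]
    rw [klG_mulVec ((klG K).inv_mem ht), h1, e2] at h2
    exact h2

omit [Fintype F] in
/-- The determinant of the torus element `v ↦ v + ((k - 1) π(v)) u` is the determinant of
multiplication by `k` on `K`. -/
theorem det_torM {r : ℕ} (hK : Cfsg.Geo.IsFieldSubalgebra r K) (u : Fin n → F) (π : KFun K)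
    (hπ : π u = 1) (k : ↥K) :
    (torM hK.comm u π k).det = LinearMap.det (LinearMap.mulLeft F k) := by
  let b := Module.finBasis F ↥K
  let A : Matrix (Fin n) (Fin (Module.finrank F ↥K)) F :=
    LinearMap.toMatrix b (Pi.basisFun F (Fin n)) (actLin K u)
  let B : Matrix (Fin (Module.finrank F ↥K)) (Fin n) F :=
    LinearMap.toMatrix (Pi.basisFun F (Fin n)) b ((π.smul hK.comm (k - 1)).toLin)
  have hAB : A * B = kT u (π.smul hK.comm (k - 1)) := by
    rw [kT, ← LinearMap.toMatrix_comp, LinearMap.toMatrix_eq_toMatrix']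
  have hBA : 1 + B * A = LinearMap.toMatrix b b (LinearMap.mulLeft F k) := by
    rw [← LinearMap.toMatrix_comp, ← LinearMap.toMatrix_id b, ← map_add]
    congr 1
    apply LinearMap.ext
    intro c
    rw [LinearMap.add_apply, LinearMap.id_apply, LinearMap.comp_apply, LinearMap.mulLeft_apply]
    apply Subtype.ext
    show (c : Matrix (Fin n) (Fin n) F) +
      (((k - 1) * π ((c : Matrix (Fin n) (Fin n) F) *ᵥ u) : ↥K) : Matrix (Fin n) (Fin n) F) =
      ((k * c : ↥K) : Matrix (Fin n) (Fin n) F)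
    rw [π.map_k, hπ, mul_one, Subalgebra.coe_mul, Subalgebra.coe_mul, Subalgebra.coe_sub,
      OneMemClass.coe_one, sub_mul, one_mul, add_sub_cancel]
  rw [torM, ← hAB, Matrix.det_one_add_mul_comm, hBA, LinearMap.det_toMatrix]

/-- **det-norm**: the determinant maps the normaliser of `K` onto the non-zero scalars. -/
theorem exists_normalizer_det {r : ℕ} (hK : Cfsg.Geo.IsFieldSubalgebra r K) (hn : r < n) (c : F)
    (hc : c ≠ 0) : ∃ g : GL (Fin n) F, g ∈ Cfsg.Geo.subalgebraNormalizer K ∧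
      (g : Matrix (Fin n) (Fin n) F).det = c := by
  have hne : Nonempty (Fin n) := ⟨⟨0, by omega⟩⟩
  obtain ⟨u, hu⟩ : ∃ u : Fin n → F, u ≠ 0 :=
    ⟨fun _ => 1, fun h => one_ne_zero (congrFun h ⟨0, by omega⟩)⟩
  obtain ⟨π, hπ⟩ := exists_kfun_one hK u hu
  obtain ⟨k, hk⟩ : ∃ k : ↥K, LinearMap.det (LinearMap.mulLeft F k) = c := by
    have hsurj := @FiniteField.norm_surjective F ↥K _ (fs_isField hK).toField
      (Subalgebra.algebra K) inferInstance c
    obtain ⟨k, hk⟩ := hsurj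
    exact ⟨k, hk⟩
  have hk0 : k ≠ 0 := by
    rintro rfl
    apply hc
    rw [← hk]
    have h0 : LinearMap.mulLeft F (0 : ↥K) = 0 := by
      ext x; simp
    have hr : 0 < Module.finrank F ↥K := by
      have : Nontrivial ↥K := (fs_isField hK).nontrivial
      exact Module.finrank_pos
    have : Nonempty (Fin (Module.finrank F ↥K)) := ⟨⟨0, hr⟩⟩
    rw [h0, LinearMap.det_zero' (Module.finBasis F ↥K)]
  obtain ⟨k', hk', hkk'⟩ := hK.inv k k.2 (fun h => hk0 (Subtype.ext h))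
  have hkk : k * (⟨k', hk'⟩ : ↥K) = 1 := Subtype.ext hkk'
  refine ⟨torG hK.comm u π hπ k ⟨k', hk'⟩ hkk, mem_normalizer_of_comm (fun x hx => ?_), ?_⟩
  · rw [torG_val]; exact torM_comm hK.comm u π k x hx
  · rw [torG_val, det_torM hK u π hπ k, hk]

/-- A subgroup containing the normaliser of `K` and the special linear group is everything. -/
theorem eq_top_of_sl_le {r : ℕ} (hK : Cfsg.Geo.IsFieldSubalgebra r K) (hn : r < n)
    (M : Subgroup (GL (Fin n) F)) (hN : Cfsg.Geo.subalgebraNormalizer K ≤ M)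
    (hSL : Cfsg.Geo.specialLinear (Fin n) F ≤ M) : M = ⊤ := by
  rw [eq_top_iff]
  intro x _
  have hx1 : (x : Matrix (Fin n) (Fin n) F).det *
      ((x⁻¹ : GL (Fin n) F) : Matrix (Fin n) (Fin n) F).det = 1 := by
    rw [← Matrix.det_mul, ← Units.val_mul, mul_inv_cancel, Units.val_one, Matrix.det_one]
  have hc : (x : Matrix (Fin n) (Fin n) F).det ≠ 0 := by
    intro h
    rw [h, zero_mul] at hx1
    exact zero_ne_one hx1
  obtain ⟨g, hg, hgd⟩ := exists_normalizer_det hK hn _ hc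
  have hg1 : ((g⁻¹ : GL (Fin n) F) : Matrix (Fin n) (Fin n) F).det *
      (g : Matrix (Fin n) (Fin n) F).det = 1 := by
    rw [← Matrix.det_mul, ← Units.val_mul, inv_mul_cancel, Units.val_one, Matrix.det_one]
  have hmem : g⁻¹ * x ∈ Cfsg.Geo.specialLinear (Fin n) F := by
    rw [mem_specialLinear_iff, Units.val_mul, Matrix.det_mul, ← hgd]
    exact hg1
  have hx : x = g * (g⁻¹ * x) := by group
  rw [hx]
  exact M.mul_mem (hN hg) (hSL hmem)

end Cfsg.Agent.Lib.Helper96.KLinG
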