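import Mathlib
import Cfsg.Prelude.Def_Sporadic_a
import Cfsg.Prelude.Def_Spor_Mathieu
import Cfsg.Prelude.Def_KGroupFacts
import Cfsg.Agent.Lib.Helper96.MathieuOut
import Cfsg.Agent.Lib.Helper96.M11Out

set_option autoImplicit false

/-!
# The outer automorphism group of `M22` has order 2
-/

namespace Cfsg.Agent.Lib.Helper96

open Cfsg Cfsg.Agent.Lib.Helper9
open scoped Pointwise

theorem mem_M22_iff (x : Equiv.Perm GolayPt) :
    x ∈ Spor.M22 ↔ x ∈ M24 ∧ x (pt 0) = pt 0 ∧ x (pt 23) = pt 23 := by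
  rw [Cfsg.Agent.Lib.Helper89.M22_eq, Subgroup.mem_inf, mem_fixing]
  simp

theorem M22_le : Spor.M22 ≤ M24 := fun x hx => ((mem_M22_iff x).mp hx).1

theorem o24m_mem_M22 : o24m ∈ Spor.M22 := by
  rw [mem_M22_iff]
  refine ⟨o24m_mem, ?_, ?_⟩
  · rw [hasTable_o24m.apply_pt (by norm_num), o23_rels.2.2.2.2.2.1]
  · rw [hasTable_o24m.apply_pt (by norm_num), o23_rels.2.2.1]

theorem cube_mem_M22 : cubeTwist ∈ Spor.M22 := by
  rw [mem_M22_iff]
  refine ⟨cubeTwist_mem, ?_, ?_⟩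
  · rw [hasTable_cubeTwist.apply_pt (by norm_num), o23_rels.2.2.2.2.2.2.1]
  · rw [hasTable_cubeTwist.apply_pt (by norm_num), o23_rels.2.2.2.2.1]

/-- the third generator of `M22` -/
noncomputable def od22 : Equiv.Perm GolayPt := Classical.choose (tab_sound o22_rels.1)

theorem hasTable_od22 : HasTable od22 oD22 := (Classical.choose_spec (tab_sound o22_rels.1)).1

theorem od22_mem_M22 : od22 ∈ Spor.M22 := by
  have h := (Classical.choose_spec (tab_sound o22_rels.1)).2
  rw [mem_M22_iff]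
  exact ⟨h.1, h.2.1 0 (by simp), h.2.1 23 (by simp)⟩

theorem fac_M22 : (Nat.card ↥Spor.M22).factorization 11 = 1 := by
  rw [Cfsg.Agent.Lib.Helper89.card_SporM22]
  exact factorization_eq_one_of (by norm_num) (m := 40320) (by norm_num) (by norm_num)

theorem closure_M22 : Subgroup.closure {o24m, cubeTwist, od22} = Spor.M22 :=
  closure_three_eq o24m_mem_M22 cube_mem_M22 od22_mem_M22
    Cfsg.Agent.Lib.Helper89.card_SporM22
    (fun _ ha hb hd => card_ge_of_chain hasTable_o24m hasTable_cubeTwist hasTable_od22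
      oProg22 oSpec22 o22_gen ha hb hd)

theorem od22_rel1 : od22 * cubeTwist = cubeTwist ^ 2 * od22 :=
  eq_of_tables (hasTable_mul hasTable_od22 hasTable_cubeTwist)
    (hasTable_mul (hasTable_pow hasTable_cubeTwist 2) hasTable_od22) o22_rels.2.1

theorem od22_rel2 : (o24m * od22) ^ 11 = 1 :=
  eq_of_tables (hasTable_pow (hasTable_mul hasTable_o24m hasTable_od22) 11) hasTable_one
    o22_rels.2.2.1

theorem projInv_inv : projInv⁻¹ = projInv := inv_eq_of_mul_eq_one_right o24_r3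

theorem projInv_pt23 : projInv (pt 23) = pt 0 := by
  rw [hasTable_projInv.apply_pt (by norm_num), o23_rels.2.2.2.2.2.2.2.2.2.1]

theorem projInv_pt0 : projInv (pt 0) = pt 23 := by
  rw [hasTable_projInv.apply_pt (by norm_num), o23_rels.2.2.2.2.2.2.2.2.2.2.1]

theorem projInv_conj_M22 : ∀ x ∈ Spor.M22, projInv * x * projInv⁻¹ ∈ Spor.M22 := by
  intro x hx
  rw [mem_M22_iff] at hx ⊢
  refine ⟨M24.mul_mem (M24.mul_mem projInv_mem hx.1) (M24.inv_mem projInv_mem), ?_, ?_⟩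
  · rw [projInv_inv, Equiv.Perm.mul_apply, Equiv.Perm.mul_apply, projInv_pt0, hx.2.2,
      projInv_pt23]
  · rw [projInv_inv, Equiv.Perm.mul_apply, Equiv.Perm.mul_apply, projInv_pt23, hx.2.1,
      projInv_pt0]

theorem projInv_conj_M22' : ∀ x ∈ Spor.M22, projInv⁻¹ * x * projInv ∈ Spor.M22 := by
  intro x hx
  have := projInv_conj_M22 x hx
  rwa [projInv_inv] at this ⊢

/-- the outer automorphism of `M22` -/
noncomputable def tau22 : MulAut ↥Spor.M22 := conjAut projInv projInv_conj_M22 projInv_conj_M22'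

theorem conjAut_sq {H : Subgroup (Equiv.Perm GolayPt)}
    (hw : ∀ x ∈ H, projInv * x * projInv⁻¹ ∈ H) (hw' : ∀ x ∈ H, projInv⁻¹ * x * projInv ∈ H) :
    conjAut projInv hw hw' * conjAut projInv hw hw' = 1 := by
  apply MulEquiv.ext
  intro x
  apply Subtype.ext
  show projInv * (projInv * (x : Equiv.Perm GolayPt) * projInv⁻¹) * projInv⁻¹ = x
  rw [projInv_inv]
  calc projInv * (projInv * (x : Equiv.Perm GolayPt) * projInv) * projInv
      = (projInv * projInv) * x * (projInv * projInv) := by group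
    _ = x := by rw [o24_r3, one_mul, mul_one]

/-- an element of `M24` commuting with `t ↦ 2 t` fixes `pt 23` and the dodecad of squares -/
theorem commute_o24m {z : Equiv.Perm GolayPt} (hz : z ∈ M24) (hzm : z * o24m = o24m * z) :
    z (pt 23) = pt 23 ∧ z • msk 340831 = msk 340831 := by
  have hzm' : z * o24m = o24m ^ 1 * z := by rw [pow_one]; exact hzm
  obtain ⟨X, hXT, hP⟩ := solve_pin om_solve1 om_cent hasTable_o24m
    (hasTable_pow hasTable_o24m 1) hz hzm'
  simp only [Bool.and_eq_true, beq_iff_eq] at hP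
  refine ⟨?_, smul_msk_of_pull hXT hP.2⟩
  rw [hXT.apply_pt (by norm_num), hP.1]

/-- if conjugation by `projInv` on `H` were inner, `projInv` would be a product `y * z` with
`y ∈ H` and `z` commuting with `t ↦ 2 t` -/
theorem exists_commuting_of_inner {H : Subgroup (Equiv.Perm GolayPt)} (hH : H ≤ M24)
    (hm : o24m ∈ H) (hw : ∀ x ∈ H, projInv * x * projInv⁻¹ ∈ H)
    (hw' : ∀ x ∈ H, projInv⁻¹ * x * projInv ∈ H) (y : ↥H)
    (hy : MulAut.conj y = conjAut projInv hw hw') :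
    ∃ z : Equiv.Perm GolayPt, z ∈ M24 ∧ z * o24m = o24m * z ∧ projInv = y * z := by
  have h1 := congrArg (fun f : MulAut ↥H => ((f ⟨o24m, hm⟩ : ↥H) : Equiv.Perm GolayPt)) hy
  have h2 : (y : Equiv.Perm GolayPt) * o24m * (y : Equiv.Perm GolayPt)⁻¹ =
      projInv * o24m * projInv⁻¹ := h1
  refine ⟨(y : Equiv.Perm GolayPt)⁻¹ * projInv,
    M24.mul_mem (M24.inv_mem (hH y.2)) projInv_mem, ?_, by group⟩
  have h3 : o24m = (y : Equiv.Perm GolayPt)⁻¹ * (projInv * o24m * projInv⁻¹) * y := by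
    rw [← h2]; group
  calc (y : Equiv.Perm GolayPt)⁻¹ * projInv * o24m
      = ((y : Equiv.Perm GolayPt)⁻¹ * (projInv * o24m * projInv⁻¹) * y) *
          ((y : Equiv.Perm GolayPt)⁻¹ * projInv) := by group
    _ = o24m * ((y : Equiv.Perm GolayPt)⁻¹ * projInv) := by rw [← h3]

theorem tau22_not_inner (y : ↥Spor.M22) : MulAut.conj y ≠ tau22 := by
  intro hy
  obtain ⟨z, hz, hzm, hwz⟩ := exists_commuting_of_inner M22_le o24m_mem_M22 projInv_conj_M22
    projInv_conj_M22' y hy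
  have h1 := (commute_o24m hz hzm).1
  have h2 := ((mem_M22_iff _).mp y.2).2.2
  have h3 : projInv (pt 23) = pt 23 := by
    rw [hwz, Equiv.Perm.mul_apply, h1, h2]
  rw [projInv_pt23] at h3
  have := congrArg idx h3
  rw [idx_pt (by norm_num), idx_pt (by norm_num)] at this
  exact absurd this (by norm_num)

theorem tau22_m : tau22 ⟨o24m, o24m_mem_M22⟩ = ⟨o24m, o24m_mem_M22⟩ ^ 10 := by
  apply Subtype.ext
  show projInv * o24m * projInv⁻¹ = o24m ^ 10
  rw [o24_r2, mul_inv_cancel_right]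

theorem tau22_c : tau22 ⟨cubeTwist, cube_mem_M22⟩ = ⟨cubeTwist, cube_mem_M22⟩ := by
  apply Subtype.ext
  show projInv * cubeTwist * projInv⁻¹ = cubeTwist
  rw [← o24_r6, mul_inv_cancel_right]

theorem hasTable_tau22_d :
    HasTable ((tau22 ⟨od22, od22_mem_M22⟩ : ↥Spor.M22) : Equiv.Perm GolayPt) oE22 := by
  have h : HasTable (projInv * od22 * projInv⁻¹) (compT (compT projInvT oD22) (invT projInvT)) :=
    hasTable_mul (hasTable_mul hasTable_projInv hasTable_od22) (hasTable_inv hasTable_projInv)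
  rw [o22_rels.2.2.2] at h
  exact h

/-- The automorphisms of `M22`: inner, or inner times `tau22`. -/
theorem m22_aut (φ : MulAut ↥Spor.M22) :
    (∃ x : ↥Spor.M22, MulAut.conj x = φ) ∨ (∃ x : ↥Spor.M22, MulAut.conj x * tau22 = φ) := by
  obtain ⟨h, e, ec⟩ := norm11 M22_le o24m_mem_M22 cube_mem_M22 fac_M22 φ
  set ψ : MulAut ↥Spor.M22 := MulAut.conj h * φ with hψ
  have hrel : (⟨od22, od22_mem_M22⟩ : ↥Spor.M22) * ⟨cubeTwist, cube_mem_M22⟩ =
      ⟨cubeTwist, cube_mem_M22⟩ ^ 2 * ⟨od22, od22_mem_M22⟩ := Subtype.ext od22_rel1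
  have h1 : ψ ⟨od22, od22_mem_M22⟩ * ⟨cubeTwist, cube_mem_M22⟩ =
      ⟨cubeTwist, cube_mem_M22⟩ ^ 2 * ψ ⟨od22, od22_mem_M22⟩ := by
    have := congrArg ψ hrel
    rwa [map_mul, map_mul, map_pow, ec] at this
  have hD : ((ψ ⟨od22, od22_mem_M22⟩ : ↥Spor.M22) : Equiv.Perm GolayPt) * cubeTwist =
      cubeTwist ^ 2 * ((ψ ⟨od22, od22_mem_M22⟩ : ↥Spor.M22) : Equiv.Perm GolayPt) :=
    congrArg Subtype.val h1
  have hmem := (mem_M22_iff _).mp (ψ ⟨od22, od22_mem_M22⟩).2
  obtain ⟨X, hXT, hP⟩ := solve_pin oc_solve2 o22_chk hasTable_cubeTwist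
    (hasTable_pow hasTable_cubeTwist 2) hmem.1 hD
  have h23 : X.getD 23 0 = 23 := getD_eq_of_fix hXT (by norm_num) hmem.2.2
  have h0 : X.getD 0 0 = 0 := getD_eq_of_fix hXT (by norm_num) hmem.2.1
  have hrel2 : ((⟨o24m, o24m_mem_M22⟩ : ↥Spor.M22) * ⟨od22, od22_mem_M22⟩) ^ 11 = 1 :=
    Subtype.ext od22_rel2
  have h2 : (ψ ⟨o24m, o24m_mem_M22⟩ * ψ ⟨od22, od22_mem_M22⟩) ^ 11 = 1 := by
    rw [← map_mul, ← map_pow, hrel2, map_one]
  simp only [Bool.and_eq_true, Bool.or_eq_true, Bool.not_eq_eq_eq_not, Bool.not_true,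
    beq_iff_eq, Bool.and_eq_false_iff, beq_eq_false_iff_ne, ne_eq, h23, h0, not_true_eq_false,
    false_or] at hP
  obtain ⟨hP1, hP2⟩ := hP
  rcases e with e | e
  · left
    have hd : ψ ⟨od22, od22_mem_M22⟩ = ⟨od22, od22_mem_M22⟩ := by
      rw [e] at h2
      have h3 : (o24m * ((ψ ⟨od22, od22_mem_M22⟩ : ↥Spor.M22) : Equiv.Perm GolayPt)) ^ 11 = 1 :=
        congrArg Subtype.val h2
      have h4 : powT (compT o24M X) 11 = idT :=
        table_eq_of_eq (hasTable_pow (hasTable_mul hasTable_o24m hXT) 11) hasTable_one h3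
      rcases hP1 with hP1 | hP1
      · exact (hP1 h4).elim
      · apply Subtype.ext
        exact eq_of_tables hXT hasTable_od22 hP1
    have hψ1 : ψ = 1 := by
      apply eq_one_of_fix_closure {o24m, cubeTwist, od22} closure_M22
      rintro s (rfl | rfl | rfl) hs
      · exact e
      · exact ec
      · exact hd
    refine ⟨h⁻¹, ?_⟩
    rw [map_inv]
    exact inv_eq_of_mul_eq_one_right hψ1
  · right
    have hd : ψ ⟨od22, od22_mem_M22⟩ = tau22 ⟨od22, od22_mem_M22⟩ := by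
      rw [e] at h2
      have h3 : (o24m ^ 10 * ((ψ ⟨od22, od22_mem_M22⟩ : ↥Spor.M22) : Equiv.Perm GolayPt)) ^ 11
          = 1 := congrArg Subtype.val h2
      have h4 : powT (compT (powT o24M 10) X) 11 = idT :=
        table_eq_of_eq (hasTable_pow (hasTable_mul (hasTable_pow hasTable_o24m 10) hXT) 11)
          hasTable_one h3
      rcases hP2 with hP2 | hP2
      · exact (hP2 h4).elim
      · apply Subtype.ext
        exact eq_of_tables hXT hasTable_tau22_d hP2
    have hψ1 : ψ = tau22 := by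
      apply eq_of_eq_on_closure {o24m, cubeTwist, od22} closure_M22
      rintro s (rfl | rfl | rfl) hs
      · rw [e, tau22_m]
      · rw [ec, tau22_c]
      · exact hd
    refine ⟨h⁻¹, ?_⟩
    rw [map_inv, ← hψ1, hψ, inv_mul_cancel_left]

theorem card_out_m22 : Nat.card (Cfsg.Out ↥Spor.M22) = 2 :=
  card_out_eq_two tau22 tau22_not_inner (conjAut_sq _ _) m22_aut

end Cfsg.Agent.Lib.Helper96
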