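import Mathlib
import Cfsg.Prelude.Def_Sporadic_a
import Cfsg.Prelude.Def_Spor_Mathieu
import Cfsg.Prelude.Def_KGroupFacts
import Cfsg.Agent.Lib.Helper96.MathieuOut
import Cfsg.Agent.Lib.Helper96.M11Out
import Cfsg.Agent.Lib.Helper96.M22Out

set_option autoImplicit false

/-!
# The outer automorphism group of `M12` has order 2
-/

namespace Cfsg.Agent.Lib.Helper96

open Cfsg Cfsg.Agent.Lib.Helper9
open scoped Pointwise

theorem o24m_mem_M12 : o24m ∈ Spor.M12 := by
  rw [mem_M12_iff]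
  exact ⟨o24m_mem, smul_msk_of_pull hasTable_o24m o23_rels.2.2.2.2.2.2.2.1⟩

theorem cube_mem_M12 : cubeTwist ∈ Spor.M12 := by
  rw [mem_M12_iff]
  exact ⟨cubeTwist_mem, smul_msk_of_pull hasTable_cubeTwist o23_rels.2.2.2.2.2.2.2.2.1⟩

/-- the third generator of `M12` -/
noncomputable def od12 : Equiv.Perm GolayPt := Classical.choose (tab_sound o12_rels.1)

theorem hasTable_od12 : HasTable od12 oD12 := (Classical.choose_spec (tab_sound o12_rels.1)).1

theorem od12_mem_M12 : od12 ∈ Spor.M12 := by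
  have h := (Classical.choose_spec (tab_sound o12_rels.1)).2
  rw [mem_M12_iff]
  exact ⟨h.1, h.2.2 340831 (by simp)⟩

theorem fac_M12 : (Nat.card ↥Spor.M12).factorization 11 = 1 := by
  rw [Cfsg.Agent.Lib.Helper89.card_SporM12]
  exact factorization_eq_one_of (by norm_num) (m := 8640) (by norm_num) (by norm_num)

theorem closure_M12 : Subgroup.closure {o24m, cubeTwist, od12} = Spor.M12 :=
  closure_three_eq o24m_mem_M12 cube_mem_M12 od12_mem_M12
    Cfsg.Agent.Lib.Helper89.card_SporM12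
    (fun _ ha hb hd => card_ge_of_chain hasTable_o24m hasTable_cubeTwist hasTable_od12
      oProg12 oSpec12 o12_gen ha hb hd)

theorem od12_rel1 : od12 * cubeTwist = cubeTwist ^ 1 * od12 :=
  eq_of_tables (hasTable_mul hasTable_od12 hasTable_cubeTwist)
    (hasTable_mul (hasTable_pow hasTable_cubeTwist 1) hasTable_od12) o12_rels.2.1

theorem od12_rel2 : (o24m * od12) ^ 11 = 1 :=
  eq_of_tables (hasTable_pow (hasTable_mul hasTable_o24m hasTable_od12) 11) hasTable_one
    o12_rels.2.2.1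

theorem od12_rel3 : (o24m * (cubeTwist * od12)) ^ 6 = 1 :=
  eq_of_tables (hasTable_pow (hasTable_mul hasTable_o24m
    (hasTable_mul hasTable_cubeTwist hasTable_od12)) 6) hasTable_one o12_rels.2.2.2.1

theorem msk_compl_sq : msk 16436384 = (msk 340831)ᶜ := by
  ext p
  rw [Finset.mem_compl, mem_msk, mem_msk]
  have h : ∀ i < 24, (Nat.testBit 16436384 i = true ↔ ¬ Nat.testBit 340831 i = true) := by
    decide
  exact h _ (idx_lt p)

theorem projInv_inv_smul_sq : projInv⁻¹ • msk 340831 = msk 16436384 := by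
  rw [inv_smul_msk hasTable_projInv, o23_rels.2.2.2.2.2.2.2.2.2.2.2.1]

theorem projInv_smul_compl : projInv • msk 16436384 = msk 340831 := by
  rw [← projInv_inv_smul_sq, smul_inv_smul]

theorem projInv_conj_M12 : ∀ x ∈ Spor.M12, projInv * x * projInv⁻¹ ∈ Spor.M12 := by
  intro x hx
  rw [mem_M12_iff] at hx ⊢
  refine ⟨M24.mul_mem (M24.mul_mem projInv_mem hx.1) (M24.inv_mem projInv_mem), ?_⟩
  have h1 : x • msk 16436384 = msk 16436384 := by
    rw [msk_compl_sq, Finset.compl_eq_univ_sdiff, Finset.smul_finset_sdiff,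
      Finset.smul_finset_univ, hx.2]
  rw [mul_smul, mul_smul, projInv_inv_smul_sq, h1, projInv_smul_compl]

theorem projInv_conj_M12' : ∀ x ∈ Spor.M12, projInv⁻¹ * x * projInv ∈ Spor.M12 := by
  intro x hx
  have := projInv_conj_M12 x hx
  rwa [projInv_inv] at this ⊢

/-- the outer automorphism of `M12` -/
noncomputable def tau12 : MulAut ↥Spor.M12 := conjAut projInv projInv_conj_M12 projInv_conj_M12'

theorem tau12_not_inner (y : ↥Spor.M12) : MulAut.conj y ≠ tau12 := by
  intro hy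
  obtain ⟨z, hz, hzm, hwz⟩ := exists_commuting_of_inner M12_le o24m_mem_M12 projInv_conj_M12
    projInv_conj_M12' y hy
  have h1 := (commute_o24m hz hzm).2
  have h2 := ((mem_M12_iff _).mp y.2).2
  have h3 : projInv • msk 340831 = msk 340831 := by
    rw [hwz, mul_smul, h1, h2]
  have h4 : msk 16436384 = msk 340831 := by
    rw [← projInv_inv_smul_sq, inv_smul_eq_iff, h3]
  have h5 : pt 0 ∈ msk 340831 := by
    rw [pt_mem_msk (by norm_num)]; decide
  rw [← h4, pt_mem_msk (by norm_num)] at h5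
  exact absurd h5 (by decide)

theorem tau12_m : tau12 ⟨o24m, o24m_mem_M12⟩ = ⟨o24m, o24m_mem_M12⟩ ^ 10 := by
  apply Subtype.ext
  show projInv * o24m * projInv⁻¹ = o24m ^ 10
  rw [o24_r2, mul_inv_cancel_right]

theorem tau12_c : tau12 ⟨cubeTwist, cube_mem_M12⟩ = ⟨cubeTwist, cube_mem_M12⟩ := by
  apply Subtype.ext
  show projInv * cubeTwist * projInv⁻¹ = cubeTwist
  rw [← o24_r6, mul_inv_cancel_right]

theorem hasTable_tau12_d :
    HasTable ((tau12 ⟨od12, od12_mem_M12⟩ : ↥Spor.M12) : Equiv.Perm GolayPt) oE12 := by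
  have h : HasTable (projInv * od12 * projInv⁻¹) (compT (compT projInvT oD12) (invT projInvT)) :=
    hasTable_mul (hasTable_mul hasTable_projInv hasTable_od12) (hasTable_inv hasTable_projInv)
  rw [o12_rels.2.2.2.2] at h
  exact h

/-- The automorphisms of `M12`: inner, or inner times `tau12`. -/
theorem m12_aut (φ : MulAut ↥Spor.M12) :
    (∃ x : ↥Spor.M12, MulAut.conj x = φ) ∨ (∃ x : ↥Spor.M12, MulAut.conj x * tau12 = φ) := by
  obtain ⟨h, e, ec⟩ := norm11 M12_le o24m_mem_M12 cube_mem_M12 fac_M12 φ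
  set ψ : MulAut ↥Spor.M12 := MulAut.conj h * φ with hψ
  have hrel : (⟨od12, od12_mem_M12⟩ : ↥Spor.M12) * ⟨cubeTwist, cube_mem_M12⟩ =
      ⟨cubeTwist, cube_mem_M12⟩ ^ 1 * ⟨od12, od12_mem_M12⟩ := Subtype.ext od12_rel1
  have h1 : ψ ⟨od12, od12_mem_M12⟩ * ⟨cubeTwist, cube_mem_M12⟩ =
      ⟨cubeTwist, cube_mem_M12⟩ ^ 1 * ψ ⟨od12, od12_mem_M12⟩ := by
    have := congrArg ψ hrel
    rwa [map_mul, map_mul, map_pow, ec] at this
  have hD : ((ψ ⟨od12, od12_mem_M12⟩ : ↥Spor.M12) : Equiv.Perm GolayPt) * cubeTwist =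
      cubeTwist ^ 1 * ((ψ ⟨od12, od12_mem_M12⟩ : ↥Spor.M12) : Equiv.Perm GolayPt) :=
    congrArg Subtype.val h1
  have hmem := (mem_M12_iff _).mp (ψ ⟨od12, od12_mem_M12⟩).2
  obtain ⟨X, hXT, hP⟩ := solve_pin oc_solve1 o12_chk hasTable_cubeTwist
    (hasTable_pow hasTable_cubeTwist 1) hmem.1 hD
  have hmask : pull X 340831 = 340831 := pull_of_smul_msk hXT (by norm_num) hmem.2
  have hrel2 : ((⟨o24m, o24m_mem_M12⟩ : ↥Spor.M12) * ⟨od12, od12_mem_M12⟩) ^ 11 = 1 :=
    Subtype.ext od12_rel2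
  have hrel3 : ((⟨o24m, o24m_mem_M12⟩ : ↥Spor.M12) *
      (⟨cubeTwist, cube_mem_M12⟩ * ⟨od12, od12_mem_M12⟩)) ^ 6 = 1 := Subtype.ext od12_rel3
  have h2 : (ψ ⟨o24m, o24m_mem_M12⟩ * ψ ⟨od12, od12_mem_M12⟩) ^ 11 = 1 := by
    rw [← map_mul, ← map_pow, hrel2, map_one]
  have h2' : (ψ ⟨o24m, o24m_mem_M12⟩ *
      (⟨cubeTwist, cube_mem_M12⟩ * ψ ⟨od12, od12_mem_M12⟩)) ^ 6 = 1 := by
    have := congrArg ψ hrel3
    rwa [map_pow, map_mul, map_mul, ec, map_one] at this
  simp only [Bool.and_eq_true, Bool.or_eq_true, Bool.not_eq_eq_eq_not, Bool.not_true,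
    beq_iff_eq, Bool.and_eq_false_iff, beq_eq_false_iff_ne, ne_eq, hmask, not_true_eq_false,
    false_or] at hP
  obtain ⟨hP1, hP2⟩ := hP
  rcases e with e | e
  · left
    have hd : ψ ⟨od12, od12_mem_M12⟩ = ⟨od12, od12_mem_M12⟩ := by
      rw [e] at h2 h2'
      have h3 : (o24m * ((ψ ⟨od12, od12_mem_M12⟩ : ↥Spor.M12) : Equiv.Perm GolayPt)) ^ 11 = 1 :=
        congrArg Subtype.val h2
      have h3' : (o24m * (cubeTwist *
          ((ψ ⟨od12, od12_mem_M12⟩ : ↥Spor.M12) : Equiv.Perm GolayPt))) ^ 6 = 1 :=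
        congrArg Subtype.val h2'
      have h4 : powT (compT o24M X) 11 = idT :=
        table_eq_of_eq (hasTable_pow (hasTable_mul hasTable_o24m hXT) 11) hasTable_one h3
      have h4' : powT (compT o24M (compT cubeTwistT X)) 6 = idT :=
        table_eq_of_eq (hasTable_pow (hasTable_mul hasTable_o24m
          (hasTable_mul hasTable_cubeTwist hXT)) 6) hasTable_one h3'
      rcases hP1 with (hP1 | hP1) | hP1
      · exact (hP1 h4).elim
      · exact (hP1 h4').elim
      · apply Subtype.ext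
        exact eq_of_tables hXT hasTable_od12 hP1
    have hψ1 : ψ = 1 := by
      apply eq_one_of_fix_closure {o24m, cubeTwist, od12} closure_M12
      rintro s (rfl | rfl | rfl) hs
      · exact e
      · exact ec
      · exact hd
    refine ⟨h⁻¹, ?_⟩
    rw [map_inv]
    exact inv_eq_of_mul_eq_one_right hψ1
  · right
    have hd : ψ ⟨od12, od12_mem_M12⟩ = tau12 ⟨od12, od12_mem_M12⟩ := by
      rw [e] at h2 h2'
      have h3 : (o24m ^ 10 * ((ψ ⟨od12, od12_mem_M12⟩ : ↥Spor.M12) : Equiv.Perm GolayPt)) ^ 11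
          = 1 := congrArg Subtype.val h2
      have h3' : (o24m ^ 10 * (cubeTwist *
          ((ψ ⟨od12, od12_mem_M12⟩ : ↥Spor.M12) : Equiv.Perm GolayPt))) ^ 6 = 1 :=
        congrArg Subtype.val h2'
      have h4 : powT (compT (powT o24M 10) X) 11 = idT :=
        table_eq_of_eq (hasTable_pow (hasTable_mul (hasTable_pow hasTable_o24m 10) hXT) 11)
          hasTable_one h3
      have h4' : powT (compT (powT o24M 10) (compT cubeTwistT X)) 6 = idT :=
        table_eq_of_eq (hasTable_pow (hasTable_mul (hasTable_pow hasTable_o24m 10)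
          (hasTable_mul hasTable_cubeTwist hXT)) 6) hasTable_one h3'
      rcases hP2 with (hP2 | hP2) | hP2
      · exact (hP2 h4).elim
      · exact (hP2 h4').elim
      · apply Subtype.ext
        exact eq_of_tables hXT hasTable_tau12_d hP2
    have hψ1 : ψ = tau12 := by
      apply eq_of_eq_on_closure {o24m, cubeTwist, od12} closure_M12
      rintro s (rfl | rfl | rfl) hs
      · rw [e, tau12_m]
      · rw [ec, tau12_c]
      · exact hd
    refine ⟨h⁻¹, ?_⟩
    rw [map_inv, ← hψ1, hψ, inv_mul_cancel_left]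

theorem card_out_m12 : Nat.card (Cfsg.Out ↥Spor.M12) = 2 :=
  card_out_eq_two tau12 tau12_not_inner (conjAut_sq _ _) m12_aut

end Cfsg.Agent.Lib.Helper96
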