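import Mathlib
import Cfsg.Prelude.Def_Sporadic_a
import Cfsg.Agent.Lib.Helper9.M24Enum
import Cfsg.Agent.Lib.Helper9.M24LB
import Cfsg.Agent.Lib.Helper96.M24Cert

set_option autoImplicit false

/-!
# The two classes of involutions of `M24`

Every involution of `M24` is conjugate to `sA` (fixed points: an octad) or to `sB` (no fixed
point).  Proof: an involution which is not a transposition is conjugate to one swapping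
`pt 23, pt 0` and `pt 1, pt 2`, hence lies in a coset `u P4` of the stabiliser of four points;
its 960 elements are listed as `u * t_j * w` (`w` in the stabiliser of five points) and a
certificate gives a conjugating element for each of the 76 involutions among them.
-/

namespace Cfsg.Agent.Lib.Helper96

open Cfsg Cfsg.Agent.Lib.Helper9
open scoped Pointwise

/-- table of an element of `M24` swapping `23, 0` and `1, 2` -/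
def invU : List ℕ := [23, 2, 1, 6, 4, 21, 14, 3, 9, 12, 18, 10, 15, 13, 7, 8, 16, 19, 20, 5, 11, 17, 22, 0]

/-- tables of elements of the stabiliser of `23, 0, 1, 2` moving `3` to each of the other points -/
def invTJ : List (List ℕ) :=
  [[0, 1, 2, 3, 4, 5, 6, 7, 8, 9, 10, 11, 12, 13, 14, 15, 16, 17, 18, 19, 20, 21, 22, 23],
   [0, 1, 2, 4, 9, 22, 7, 19, 8, 3, 5, 12, 18, 15, 13, 14, 20, 16, 11, 6, 17, 21, 10, 23],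
   [0, 1, 2, 5, 19, 14, 15, 9, 8, 13, 4, 12, 18, 7, 3, 22, 21, 17, 11, 10, 16, 20, 6, 23],
   [0, 1, 2, 6, 14, 21, 22, 4, 18, 9, 20, 11, 8, 5, 7, 10, 17, 19, 12, 16, 15, 13, 3, 23],
   [0, 1, 2, 7, 9, 19, 11, 8, 22, 5, 17, 16, 13, 10, 6, 14, 15, 21, 4, 18, 3, 12, 20, 23],
   [0, 1, 2, 8, 14, 11, 21, 6, 16, 10, 20, 22, 4, 17, 12, 15, 3, 18, 13, 19, 9, 7, 5, 23],
   [0, 1, 2, 9, 17, 20, 18, 8, 16, 19, 7, 4, 13, 3, 10, 21, 14, 15, 22, 12, 6, 11, 5, 23],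
   [0, 1, 2, 10, 16, 15, 21, 6, 14, 8, 18, 5, 17, 4, 9, 11, 13, 20, 3, 19, 12, 7, 22, 23],
   [0, 1, 2, 11, 6, 8, 17, 3, 10, 4, 22, 15, 9, 7, 18, 13, 19, 12, 20, 14, 16, 5, 21, 23],
   [0, 1, 2, 12, 16, 18, 15, 9, 3, 6, 21, 5, 14, 22, 8, 7, 4, 11, 17, 10, 19, 20, 13, 23],
   [0, 1, 2, 13, 18, 16, 5, 3, 9, 6, 21, 15, 20, 11, 4, 7, 8, 22, 10, 17, 19, 14, 12, 23],
   [0, 1, 2, 14, 8, 17, 15, 20, 16, 7, 6, 22, 4, 11, 3, 21, 12, 5, 13, 9, 19, 10, 18, 23],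
   [0, 1, 2, 15, 19, 10, 22, 16, 12, 14, 3, 18, 8, 21, 20, 5, 6, 9, 11, 13, 17, 4, 7, 23],
   [0, 1, 2, 16, 21, 22, 11, 12, 15, 5, 14, 20, 9, 6, 4, 3, 19, 13, 10, 8, 17, 18, 7, 23],
   [0, 1, 2, 17, 18, 14, 9, 10, 4, 7, 6, 13, 16, 12, 5, 21, 11, 3, 22, 15, 19, 20, 8, 23],
   [0, 1, 2, 18, 9, 12, 22, 4, 6, 14, 5, 7, 19, 20, 11, 17, 10, 8, 21, 16, 3, 13, 15, 23],
   [0, 1, 2, 19, 13, 6, 9, 10, 8, 5, 14, 18, 11, 22, 7, 3, 16, 21, 12, 15, 17, 20, 4, 23],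
   [0, 1, 2, 20, 21, 10, 12, 18, 14, 22, 13, 17, 3, 7, 9, 4, 6, 15, 5, 8, 16, 11, 19, 23],
   [0, 1, 2, 21, 22, 7, 9, 10, 11, 14, 5, 12, 8, 13, 6, 17, 4, 19, 18, 15, 3, 20, 16, 23],
   [0, 1, 2, 22, 10, 4, 6, 21, 18, 3, 5, 11, 8, 20, 16, 14, 15, 13, 12, 7, 17, 19, 9, 23]]

/-- table of the representative of the involutions fixing an octad -/
def invSA : List ℕ := [23, 2, 1, 3, 4, 5, 7, 6, 11, 20, 15, 8, 18, 13, 14, 10, 16, 17, 12, 21, 9, 19, 22, 0]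

/-- table of the representative of the fixed-point-free involutions -/
def invSB : List ℕ := [23, 2, 1, 4, 3, 13, 10, 15, 11, 19, 6, 8, 18, 5, 16, 7, 14, 22, 12, 9, 21, 20, 17, 0]

/-- tables of the conjugating elements -/
def invCerts : List (List ℕ) :=
  [[9, 1, 2, 19, 5, 11, 3, 4, 15, 12, 18, 23, 0, 22, 21, 6, 14, 8, 10, 17, 7, 16, 13, 20],
   [2, 20, 9, 0, 14, 10, 18, 7, 21, 16, 3, 8, 19, 13, 15, 17, 5, 23, 11, 6, 4, 12, 22, 1],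
   [0, 21, 19, 13, 7, 14, 5, 17, 9, 10, 11, 18, 20, 1, 16, 15, 2, 3, 12, 22, 8, 4, 6, 23],
   [19, 18, 12, 0, 6, 9, 22, 3, 16, 15, 1, 5, 14, 11, 20, 2, 7, 23, 4, 13, 10, 17, 8, 21],
   [0, 19, 21, 9, 10, 20, 5, 17, 6, 16, 3, 7, 1, 15, 18, 14, 11, 12, 2, 4, 13, 22, 8, 23],
   [2, 23, 0, 12, 16, 18, 10, 20, 14, 21, 6, 17, 3, 22, 8, 19, 4, 11, 5, 15, 7, 9, 13, 1],
   [15, 9, 20, 23, 7, 2, 18, 12, 13, 17, 3, 16, 4, 21, 0, 14, 19, 1, 22, 11, 5, 8, 6, 10],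
   [0, 12, 18, 4, 21, 5, 15, 6, 14, 1, 2, 16, 22, 19, 13, 8, 9, 3, 17, 7, 11, 10, 20, 23],
   [0, 6, 7, 14, 1, 4, 8, 9, 12, 13, 5, 15, 10, 21, 22, 17, 2, 3, 18, 11, 16, 20, 19, 23],
   [0, 1, 2, 3, 4, 5, 6, 7, 8, 9, 10, 11, 12, 13, 14, 15, 16, 17, 18, 19, 20, 21, 22, 23],
   [10, 21, 20, 19, 0, 7, 22, 4, 17, 23, 2, 13, 16, 11, 15, 8, 12, 9, 3, 5, 18, 14, 1, 6],
   [20, 11, 8, 13, 4, 3, 15, 6, 2, 22, 10, 1, 19, 5, 23, 7, 18, 12, 9, 14, 16, 17, 0, 21],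
   [16, 9, 19, 21, 5, 22, 2, 8, 12, 18, 0, 6, 7, 1, 20, 10, 11, 17, 23, 13, 15, 4, 3, 14],
   [12, 11, 8, 15, 0, 9, 7, 6, 5, 22, 4, 14, 3, 2, 10, 16, 1, 20, 17, 21, 13, 19, 23, 18],
   [13, 21, 20, 17, 22, 18, 3, 4, 15, 6, 8, 10, 2, 0, 14, 1, 12, 23, 11, 9, 7, 19, 16, 5],
   [16, 12, 18, 17, 19, 22, 7, 1, 13, 6, 8, 3, 9, 21, 0, 15, 5, 23, 20, 10, 2, 11, 4, 14],
   [5, 4, 3, 22, 11, 17, 10, 6, 12, 9, 19, 23, 18, 2, 16, 21, 8, 14, 0, 7, 20, 15, 1, 13],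
   [20, 4, 3, 1, 18, 10, 11, 7, 13, 0, 14, 19, 5, 16, 15, 12, 22, 8, 9, 6, 17, 2, 23, 21],
   [23, 6, 10, 1, 21, 13, 12, 15, 4, 14, 17, 2, 5, 9, 3, 20, 16, 8, 11, 7, 19, 18, 22, 0],
   [0, 1, 2, 6, 18, 19, 3, 17, 13, 9, 10, 22, 16, 8, 21, 15, 12, 7, 4, 5, 20, 14, 11, 23],
   [17, 5, 13, 23, 18, 8, 9, 21, 6, 4, 14, 15, 20, 11, 1, 16, 0, 12, 19, 7, 3, 10, 2, 22],
   [9, 11, 8, 14, 4, 10, 18, 3, 2, 16, 22, 21, 20, 12, 17, 15, 5, 7, 1, 0, 6, 13, 23, 19],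
   [23, 14, 16, 17, 9, 18, 3, 13, 2, 11, 1, 7, 10, 5, 22, 6, 4, 12, 8, 21, 15, 19, 20, 0],
   [2, 23, 0, 12, 16, 18, 10, 20, 14, 21, 6, 17, 3, 22, 8, 19, 4, 11, 5, 15, 7, 9, 13, 1],
   [20, 13, 5, 6, 9, 7, 14, 23, 2, 0, 12, 11, 10, 19, 1, 16, 4, 8, 15, 18, 22, 17, 3, 21],
   [22, 0, 23, 10, 5, 11, 9, 13, 2, 16, 14, 6, 15, 4, 7, 18, 19, 1, 8, 3, 12, 20, 21, 17],
   [23, 9, 19, 8, 18, 1, 13, 7, 16, 6, 15, 17, 2, 12, 22, 3, 20, 14, 11, 10, 5, 4, 21, 0],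
   [2, 23, 0, 16, 12, 4, 10, 20, 21, 14, 3, 7, 6, 11, 13, 5, 18, 22, 19, 15, 17, 9, 8, 1],
   [5, 19, 9, 17, 23, 0, 21, 20, 2, 15, 1, 11, 7, 16, 14, 8, 22, 12, 6, 3, 10, 4, 18, 13],
   [0, 20, 21, 18, 1, 19, 7, 3, 4, 14, 2, 6, 13, 17, 9, 11, 8, 12, 15, 5, 22, 10, 16, 23],
   [21, 0, 23, 15, 16, 4, 22, 2, 10, 12, 18, 3, 5, 17, 6, 19, 8, 13, 7, 11, 9, 14, 1, 20],
   [23, 12, 18, 17, 8, 14, 20, 21, 5, 10, 15, 3, 4, 11, 16, 6, 2, 22, 13, 19, 7, 9, 1, 0],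
   [18, 2, 1, 6, 19, 20, 11, 8, 3, 14, 13, 5, 22, 10, 7, 4, 15, 9, 16, 23, 17, 0, 21, 12],
   [23, 17, 22, 15, 19, 8, 14, 12, 7, 20, 9, 1, 10, 21, 2, 3, 5, 6, 11, 18, 13, 16, 4, 0],
   [21, 7, 15, 4, 10, 5, 11, 23, 3, 8, 2, 13, 22, 6, 17, 0, 19, 16, 14, 18, 12, 1, 9, 20],
   [23, 14, 16, 22, 3, 18, 1, 15, 8, 5, 9, 7, 2, 19, 12, 20, 13, 17, 10, 6, 4, 11, 21, 0],
   [23, 3, 4, 10, 13, 17, 11, 20, 9, 7, 14, 8, 2, 12, 16, 22, 5, 15, 21, 1, 6, 19, 18, 0],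
   [20, 5, 13, 2, 12, 11, 8, 7, 14, 19, 3, 23, 17, 16, 15, 9, 22, 10, 18, 1, 4, 6, 0, 21],
   [0, 4, 3, 1, 15, 20, 18, 13, 21, 22, 14, 8, 9, 10, 19, 6, 16, 11, 2, 5, 7, 12, 17, 23],
   [0, 1, 2, 3, 4, 5, 6, 7, 8, 9, 10, 11, 12, 13, 14, 15, 16, 17, 18, 19, 20, 21, 22, 23],
   [0, 2, 1, 17, 20, 5, 6, 19, 8, 16, 22, 18, 12, 15, 14, 13, 9, 3, 11, 7, 4, 21, 10, 23],
   [0, 20, 21, 16, 12, 1, 15, 13, 7, 11, 22, 3, 5, 19, 8, 14, 18, 17, 10, 6, 2, 4, 9, 23],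
   [23, 17, 22, 19, 15, 5, 14, 12, 20, 7, 10, 13, 9, 6, 4, 11, 8, 21, 3, 18, 1, 16, 2, 0],
   [17, 16, 14, 13, 8, 3, 23, 12, 15, 9, 21, 10, 7, 11, 5, 20, 2, 4, 6, 0, 19, 18, 1, 22],
   [22, 0, 23, 9, 8, 3, 10, 1, 4, 16, 14, 21, 19, 2, 20, 18, 15, 13, 5, 11, 12, 7, 6, 17],
   [5, 14, 16, 11, 1, 12, 4, 3, 10, 6, 9, 7, 19, 18, 2, 21, 0, 23, 20, 17, 15, 22, 8, 13],
   [18, 21, 20, 16, 10, 2, 14, 1, 19, 6, 5, 0, 9, 4, 11, 15, 13, 17, 23, 8, 3, 22, 7, 12],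
   [21, 3, 4, 7, 14, 6, 5, 9, 23, 8, 10, 22, 16, 0, 11, 1, 17, 2, 18, 13, 15, 19, 12, 20],
   [7, 18, 12, 3, 23, 8, 11, 2, 9, 20, 14, 22, 21, 6, 13, 19, 10, 1, 16, 5, 17, 4, 0, 15],
   [4, 12, 18, 14, 7, 22, 2, 8, 5, 1, 9, 13, 0, 6, 15, 21, 16, 10, 23, 19, 11, 20, 17, 3],
   [19, 0, 23, 1, 13, 8, 21, 18, 3, 2, 17, 6, 15, 10, 14, 11, 4, 22, 5, 20, 16, 12, 7, 9],
   [2, 23, 0, 10, 5, 15, 12, 11, 22, 21, 6, 13, 4, 14, 9, 19, 3, 20, 16, 18, 7, 8, 17, 1],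
   [18, 7, 15, 13, 2, 8, 14, 17, 22, 23, 6, 16, 21, 5, 1, 10, 11, 3, 9, 19, 0, 20, 4, 12],
   [9, 2, 1, 10, 4, 22, 17, 6, 20, 12, 13, 11, 21, 18, 16, 23, 0, 7, 8, 15, 3, 14, 5, 19],
   [0, 12, 18, 20, 22, 19, 2, 11, 6, 5, 3, 10, 7, 16, 21, 13, 17, 9, 15, 8, 4, 1, 14, 23],
   [21, 23, 0, 13, 8, 15, 2, 22, 9, 10, 7, 12, 18, 16, 4, 5, 1, 6, 19, 11, 3, 14, 17, 20],
   [5, 20, 21, 6, 17, 7, 10, 2, 12, 4, 9, 22, 0, 23, 8, 3, 18, 1, 16, 15, 19, 11, 14, 13],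
   [15, 14, 16, 4, 8, 18, 11, 21, 10, 12, 0, 17, 22, 20, 13, 5, 1, 23, 6, 2, 3, 19, 9, 7],
   [12, 9, 19, 4, 10, 6, 22, 14, 17, 0, 20, 16, 1, 5, 15, 21, 7, 13, 8, 2, 23, 11, 3, 18],
   [14, 23, 0, 5, 21, 4, 15, 6, 17, 10, 8, 22, 12, 19, 9, 2, 3, 20, 18, 1, 7, 11, 13, 16],
   [14, 17, 22, 3, 8, 4, 15, 10, 18, 19, 21, 0, 23, 1, 13, 20, 2, 5, 12, 6, 9, 7, 11, 16],
   [22, 11, 8, 0, 10, 9, 20, 18, 16, 13, 6, 1, 14, 4, 21, 3, 5, 12, 2, 23, 7, 19, 15, 17],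
   [0, 1, 2, 4, 3, 16, 6, 7, 9, 8, 12, 20, 10, 17, 22, 18, 5, 13, 15, 19, 11, 21, 14, 23],
   [9, 4, 3, 13, 14, 5, 11, 15, 22, 6, 1, 16, 0, 17, 20, 7, 18, 21, 12, 2, 8, 10, 23, 19],
   [0, 12, 18, 4, 21, 5, 15, 6, 14, 1, 2, 16, 22, 19, 13, 8, 9, 3, 17, 7, 11, 10, 20, 23],
   [23, 11, 8, 12, 5, 2, 13, 4, 6, 21, 19, 20, 9, 22, 18, 10, 16, 1, 7, 17, 15, 14, 3, 0],
   [0, 10, 6, 1, 15, 3, 5, 4, 16, 14, 19, 9, 22, 12, 8, 17, 18, 13, 21, 2, 20, 11, 7, 23],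
   [0, 16, 14, 12, 3, 18, 8, 7, 9, 11, 15, 20, 5, 13, 17, 1, 21, 22, 4, 2, 6, 10, 19, 23],
   [0, 22, 17, 7, 16, 10, 4, 21, 6, 13, 3, 15, 2, 14, 11, 9, 18, 1, 8, 19, 20, 5, 12, 23],
   [16, 7, 15, 22, 1, 6, 0, 3, 13, 19, 11, 23, 4, 9, 10, 2, 8, 17, 18, 5, 21, 12, 20, 14],
   [21, 12, 18, 14, 5, 22, 2, 16, 13, 23, 19, 7, 4, 6, 8, 0, 15, 1, 10, 11, 9, 17, 3, 20],
   [0, 20, 21, 4, 8, 13, 7, 5, 2, 9, 18, 22, 11, 17, 15, 19, 16, 6, 14, 10, 12, 3, 1, 23],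
   [19, 18, 12, 1, 7, 8, 20, 23, 15, 11, 22, 13, 4, 3, 17, 2, 10, 16, 6, 21, 14, 0, 5, 9],
   [0, 3, 4, 6, 18, 22, 15, 10, 19, 8, 9, 11, 20, 5, 7, 2, 13, 14, 1, 17, 21, 16, 12, 23],
   [16, 19, 9, 18, 3, 10, 4, 2, 12, 20, 21, 7, 6, 5, 0, 17, 1, 15, 23, 8, 22, 13, 11, 14],
   [17, 12, 18, 16, 4, 23, 13, 3, 2, 15, 6, 10, 7, 9, 14, 11, 20, 0, 8, 21, 1, 19, 5, 22]]

/-- check of an element of the coset: not an involution, or conjugate to a representative -/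
def invChk (T : List ℕ) : Bool :=
  !(compT T T == idT) ||
    invCerts.any (fun C => compT C T == compT invSA C || compT C T == compT invSB C)

theorem invCerts_ok : invCerts.all (fun C => tabOK [] [] C) = true := by decide +kernel

theorem invTJ_ok : invTJ.all (fun T => tabOK [2, 1, 0, 23] [] T) = true := by decide +kernel

theorem invTJ_cover : (List.range 24).all (fun j => [0, 1, 2, 23].contains j ||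
    invTJ.any (fun T => T.getD 3 0 == j)) = true := by decide +kernel

theorem invU_ok : tabOK [] [] invU = true := by decide +kernel

theorem invSA_ok : tabOK [] [] invSA = true := by decide +kernel

theorem invSB_ok : tabOK [] [] invSB = true := by decide +kernel

theorem invBig : invTJ.all (fun TJ => words5.all (fun w =>
    invChk (compT invU (compT TJ (prodT sgsTabs w))))) = true := by decide +kernel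

/-- the mask of the fixed points of `sA` -/
def invMA : ℕ := 4415544

end Cfsg.Agent.Lib.Helper96
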