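import Mathlib

set_option autoImplicit false

open Matrix

namespace Cfsg.Agent.Lib.Helper96.MinIdx

/-- Orbit bookkeeping: the orbits of a vector group `u (F^k)` on `G ⧸ H`, and their stabilisers as
an invariant family of additive subgroups whose indices add up to the index of `H`. -/
theorem orbit_family {G : Type*} [Group G] [Finite G] {F : Type*} [Field F] [Fintype F] (k : ℕ)
    (H : Subgroup G) (u : (Fin k → F) → G) (hu : ∀ x y, u (x + y) = u x * u y)
    (hnorm : ∀ A : Matrix.SpecialLinearGroup (Fin k) F, ∃ g : G, ∀ x,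
      g * u x * g⁻¹ = u ((A : Matrix (Fin k) (Fin k) F) *ᵥ x)) :
    ∃ (t : ℕ) (W : Fin t → AddSubgroup (Fin k → F)),
      (∑ i, (W i).index = H.index) ∧
      (∀ A : Matrix.SpecialLinearGroup (Fin k) F, ∃ π : Equiv.Perm (Fin t), ∀ i x,
        ((A : Matrix (Fin k) (Fin k) F) *ᵥ x ∈ W (π i) ↔ x ∈ W i)) ∧
      (∀ g : G, ∃ i, ∀ x, (g⁻¹ * u x * g ∈ H ↔ x ∈ W i)) := by
  classical
  have hu0 : u 0 = 1 := by
    have h := hu 0 0
    rw [add_zero] at h
    have h' : u 0 * u 0 = u 0 * 1 := by
      rw [mul_one]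
      exact h.symm
    exact mul_left_cancel h'
  let inst : AddAction (Fin k → F) (G ⧸ H) :=
    { vadd := fun x ω => u x • ω
      zero_vadd := fun ω => by
        show u 0 • ω = ω
        rw [hu0, one_smul]
      add_vadd := fun x y ω => by
        show u (x + y) • ω = u x • (u y • ω)
        rw [hu, mul_smul] }
  have hvadd : ∀ (x : Fin k → F) (ω : G ⧸ H), x +ᵥ ω = u x • ω := fun _ _ => rfl
  -- stabilisers are constant on orbits
  have hstab : ∀ (ω : G ⧸ H) (y : Fin k → F),
      AddAction.stabilizer (Fin k → F) (y +ᵥ ω) = AddAction.stabilizer (Fin k → F) ω := by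
    intro ω y
    ext x
    rw [AddAction.mem_stabilizer_iff, AddAction.mem_stabilizer_iff, ← add_vadd, add_comm, add_vadd,
      vadd_left_cancel_iff]
  -- stabiliser of a coset
  have hmem : ∀ (g : G) (x : Fin k → F),
      x ∈ AddAction.stabilizer (Fin k → F) ((g : G ⧸ H)) ↔ g⁻¹ * u x * g ∈ H := by
    intro g x
    rw [AddAction.mem_stabilizer_iff, hvadd, MulAction.Quotient.smul_mk, QuotientGroup.eq]
    have h1 : (u x * g)⁻¹ * g = (g⁻¹ * u x * g)⁻¹ := by group
    show (u x * g)⁻¹ * g ∈ H ↔ g⁻¹ * u x * g ∈ H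
    rw [h1, H.inv_mem_iff]
  have : Fintype (Quotient (AddAction.orbitRel (Fin k → F) (G ⧸ H))) := Fintype.ofFinite _
  let e : Quotient (AddAction.orbitRel (Fin k → F) (G ⧸ H)) ≃
      Fin (Fintype.card (Quotient (AddAction.orbitRel (Fin k → F) (G ⧸ H)))) := Fintype.equivFin _
  refine ⟨Fintype.card (Quotient (AddAction.orbitRel (Fin k → F) (G ⧸ H))),
    fun i => AddAction.stabilizer (Fin k → F) (Quotient.out (e.symm i)), ?_, ?_, ?_⟩
  · -- the indices add up
    have h1 : ∀ q : Quotient (AddAction.orbitRel (Fin k → F) (G ⧸ H)),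
        (AddAction.stabilizer (Fin k → F) (Quotient.out q)).index =
          Nat.card (AddAction.orbit (Fin k → F) (Quotient.out q)) := by
      intro q
      rw [AddAction.index_stabilizer, Nat.card_coe_set_eq]
    have h2 : Nat.card (G ⧸ H) = ∑ q : Quotient (AddAction.orbitRel (Fin k → F) (G ⧸ H)),
        Nat.card (AddAction.orbit (Fin k → F) (Quotient.out q)) := by
      rw [Nat.card_congr (AddAction.selfEquivSigmaOrbits (Fin k → F) (G ⧸ H)), Nat.card_sigma]
    have h3 := Equiv.sum_comp e.symm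
      (fun q => (AddAction.stabilizer (Fin k → F) (Quotient.out q)).index)
    rw [h3, Finset.sum_congr rfl (fun q _ => h1 q), ← h2]
    rfl
  · -- invariance
    intro A
    obtain ⟨gA, hgA⟩ := hnorm A
    have key : ∀ (x : Fin k → F) (ω : G ⧸ H),
        gA • (x +ᵥ ω) = ((A : Matrix (Fin k) (Fin k) F) *ᵥ x) +ᵥ (gA • ω) := by
      intro x ω
      rw [hvadd, hvadd, ← mul_smul, ← mul_smul]
      congr 1
      have h := hgA x
      rw [mul_inv_eq_iff_eq_mul] at h
      exact h
    have hrel : ∀ a b : G ⧸ H, (AddAction.orbitRel (Fin k → F) (G ⧸ H)).r a b →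
        (AddAction.orbitRel (Fin k → F) (G ⧸ H)).r (gA • a) (gA • b) := by
      intro a b hab
      have hab' : a ∈ AddAction.orbit (Fin k → F) b := hab
      obtain ⟨y, hy⟩ := AddAction.mem_orbit_iff.mp hab'
      show gA • a ∈ AddAction.orbit (Fin k → F) (gA • b)
      rw [← hy, key]
      exact AddAction.mem_orbit _ _
    let f : Quotient (AddAction.orbitRel (Fin k → F) (G ⧸ H)) →
        Quotient (AddAction.orbitRel (Fin k → F) (G ⧸ H)) :=
      Quotient.map (fun ω => gA • ω) hrel
    have hsurj : Function.Surjective f := by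
      intro q
      induction q using Quotient.inductionOn with
      | h ω =>
        refine ⟨Quotient.mk _ (gA⁻¹ • ω), ?_⟩
        show Quotient.map (fun ω => gA • ω) hrel (Quotient.mk _ (gA⁻¹ • ω)) = _
        rw [Quotient.map_mk, smul_inv_smul]
    have hbij : Function.Bijective f := hsurj.bijective_of_finite
    refine ⟨(e.symm.trans (Equiv.ofBijective f hbij)).trans e, fun i x => ?_⟩
    have h1 : e.symm (((e.symm.trans (Equiv.ofBijective f hbij)).trans e) i) = f (e.symm i) := by
      simp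
    show (A : Matrix (Fin k) (Fin k) F) *ᵥ x ∈ AddAction.stabilizer (Fin k → F)
      (Quotient.out (e.symm (((e.symm.trans (Equiv.ofBijective f hbij)).trans e) i))) ↔
      x ∈ AddAction.stabilizer (Fin k → F) (Quotient.out (e.symm i))
    rw [h1]
    have h2 : f (e.symm i) = Quotient.mk _ (gA • Quotient.out (e.symm i)) := by
      conv_lhs => rw [← Quotient.out_eq (e.symm i)]
      exact Quotient.map_mk _ _ _
    have h3 : (AddAction.orbitRel (Fin k → F) (G ⧸ H)).r
        (Quotient.out (f (e.symm i))) (gA • Quotient.out (e.symm i)) := by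
      rw [h2]
      exact Quotient.mk_out (s := AddAction.orbitRel (Fin k → F) (G ⧸ H)) _
    have h3' : Quotient.out (f (e.symm i)) ∈
        AddAction.orbit (Fin k → F) (gA • Quotient.out (e.symm i)) := h3
    obtain ⟨y, hy⟩ := AddAction.mem_orbit_iff.mp h3'
    rw [← hy, hstab, AddAction.mem_stabilizer_iff, AddAction.mem_stabilizer_iff, ← key,
      smul_left_cancel_iff]
  · -- cosets
    intro g
    refine ⟨e (Quotient.mk _ (g : G ⧸ H)), fun x => ?_⟩
    show g⁻¹ * u x * g ∈ H ↔ x ∈ AddAction.stabilizer (Fin k → F)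
      (Quotient.out (e.symm (e (Quotient.mk _ (g : G ⧸ H)))))
    rw [Equiv.symm_apply_apply]
    have h3 : (AddAction.orbitRel (Fin k → F) (G ⧸ H)).r
        (Quotient.out (Quotient.mk (AddAction.orbitRel (Fin k → F) (G ⧸ H)) (g : G ⧸ H)))
        (g : G ⧸ H) :=
      Quotient.mk_out (s := AddAction.orbitRel (Fin k → F) (G ⧸ H)) _
    have h3' : Quotient.out (Quotient.mk (AddAction.orbitRel (Fin k → F) (G ⧸ H)) (g : G ⧸ H)) ∈
        AddAction.orbit (Fin k → F) (g : G ⧸ H) := h3
    obtain ⟨y, hy⟩ := AddAction.mem_orbit_iff.mp h3'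
    rw [← hy, hstab, hmem]

end Cfsg.Agent.Lib.Helper96.MinIdx
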